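import Mathlib.GroupTheory.SpecificGroups.Cyclic
import Mathlib.GroupTheory.Sylow
import Mathlib.Algebra.Group.Subgroup.Pointwise

set_option autoImplicit false

namespace Cfsg.Agent.H24

open scoped Pointwise

/-- In a finite cyclic group, two subgroups of the same order are equal. -/
theorem cyclic_subgroup_eq_of_card_eq {C : Type*} [Group C] [Finite C] [IsCyclic C]
    (A B : Subgroup C) (h : Nat.card A = Nat.card B) : A = B := by
  classical
  have := Fintype.ofFinite C
  have key : ∀ A : Subgroup C, (A : Set C) = {x : C | x ^ Nat.card A = 1} := by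
    intro A
    apply Set.eq_of_subset_of_ncard_le
    · intro x hx
      have h0 := pow_card_eq_one' (G := A) (x := ⟨x, hx⟩)
      have h1 := congrArg (Subtype.val) h0
      exact h1
    · have h1 := IsCyclic.card_pow_eq_one_le (α := C) (n := Nat.card A) Nat.card_pos
      have h2 : ({x : C | x ^ Nat.card A = 1} : Set C).ncard
          = (Finset.univ.filter (fun x : C => x ^ Nat.card A = 1)).card := by
        rw [← Set.ncard_coe_finset]
        congr 1
        ext x
        simp
      rw [h2]
      refine h1.trans ?_
      exact le_of_eq (Nat.card_coe_set_eq _)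
    · exact Set.toFinite _
  apply SetLike.coe_injective
  rw [key A, key B, h]

/-- Inside a finite cyclic subgroup `P` of `G`, two subgroups of the same order are equal. -/
theorem cyclic_subgroup_eq_of_card_eq' {G : Type*} [Group G] (P : Subgroup G) [Finite P]
    [IsCyclic P] (A B : Subgroup G) (hA : A ≤ P) (hB : B ≤ P) (h : Nat.card A = Nat.card B) :
    A = B := by
  have h1 : A.subgroupOf P = B.subgroupOf P := by
    apply cyclic_subgroup_eq_of_card_eq
    rw [Nat.card_congr (Subgroup.subgroupOfEquivOfLe hA).toEquiv,
      Nat.card_congr (Subgroup.subgroupOfEquivOfLe hB).toEquiv, h]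
  have := congrArg (Subgroup.map P.subtype) h1
  rwa [Subgroup.subgroupOf_map_subtype, Subgroup.subgroupOf_map_subtype,
    inf_eq_left.mpr hA, inf_eq_left.mpr hB] at this

end Cfsg.Agent.H24
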